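import Mathlib
import Groth.Prelude.Def_FEt
import Groth.Agent.FEtRank.Split

/-!
# Points of base changes, evaluation of maps between base changes, loci of agreement
-/

set_option autoImplicit false
set_option linter.style.haveILetI false
set_option backward.isDefEq.respectTransparency false

universe u

open CategoryTheory CategoryTheory.Limits AlgebraicGeometry

noncomputable section

namespace Groth.Agent.FEtExp

open Groth.Agent.FEtGal Groth.Agent.FEtRank

variable {X : Scheme.{u}} {Ω : Type u} [Field Ω]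

/-- Points of a base change over `η` are points over the image of `η`. -/
def basePts {X' : Scheme.{u}} (f : X' ⟶ X) (η : Spec (CommRingCat.of Ω) ⟶ X') (Z : FEt.Cat X) :
    FEt.fiberObj η ((FEt.restrict f).obj Z) ≃ FEt.fiberObj (η ≫ f) Z where
  toFun z := ⟨z.1 ≫ pullback.fst (str Z) f, by
    have hz : z.1 ≫ pullback.snd (str Z) f = η := z.2
    exact (Category.assoc _ _ _).trans ((congrArg (z.1 ≫ ·) pullback.condition).trans
      ((reassoc_of% hz) _))⟩
  invFun y := ⟨pullback.lift y.1 η y.2, pullback.lift_snd _ _ _⟩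
  left_inv z := Subtype.ext (pullback.hom_ext (pullback.lift_fst _ _ _)
    ((pullback.lift_snd _ _ _).trans z.2.symm))
  right_inv y := Subtype.ext (pullback.lift_fst _ _ _)

theorem fmap_basePts {X' : Scheme.{u}} (f : X' ⟶ X) (η : Spec (CommRingCat.of Ω) ⟶ X')
    {Z Z' : FEt.Cat X} (a : Z ⟶ Z') (z : FEt.fiberObj η ((FEt.restrict f).obj Z)) :
    basePts f η Z' (fmap η ((FEt.restrict f).map a) z) = fmap (η ≫ f) a (basePts f η Z z) := by
  refine Subtype.ext ?_
  show (z.1 ≫ ((FEt.restrict f).map a).left) ≫ pullback.fst _ _ =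
    (z.1 ≫ pullback.fst _ _) ≫ a.left
  rw [Category.assoc, Category.assoc, (isPullback_restrict_map f a).w]

variable {U : FEt.Cat X}

/-- The point of the base change to `U` given by points of `Z` and of `U`. -/
def pairPt {ξ : Spec (CommRingCat.of Ω) ⟶ X} {Z : FEt.Cat X} (z : FEt.fiberObj ξ Z)
    (u : FEt.fiberObj ξ U) : FEt.fiberObj u.1 ((FEt.restrict (str U)).obj Z) :=
  ⟨pullback.lift z.1 u.1 (z.2.trans u.2.symm), pullback.lift_snd _ _ _⟩

theorem pairPt_fst {ξ : Spec (CommRingCat.of Ω) ⟶ X} {Z : FEt.Cat X} (z : FEt.fiberObj ξ Z)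
    (u : FEt.fiberObj ξ U) : (pairPt z u).1 ≫ pullback.fst (str Z) (str U) = z.1 :=
  pullback.lift_fst _ _ _

/-- The value at `(z, u)` of a map between base changes to `U`. -/
def evPt {Z V : FEt.Cat X} (a : (FEt.restrict (str U)).obj Z ⟶ (FEt.restrict (str U)).obj V)
    {ξ : Spec (CommRingCat.of Ω) ⟶ X} (z : FEt.fiberObj ξ Z) (u : FEt.fiberObj ξ U) :
    FEt.fiberObj ξ V :=
  ⟨(basePts (str U) u.1 V (fmap u.1 a (pairPt z u))).1,
    (basePts (str U) u.1 V (fmap u.1 a (pairPt z u))).2.trans u.2⟩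

theorem evPt_val {Z V : FEt.Cat X}
    (a : (FEt.restrict (str U)).obj Z ⟶ (FEt.restrict (str U)).obj V)
    {ξ : Spec (CommRingCat.of Ω) ⟶ X} (z : FEt.fiberObj ξ Z) (u : FEt.fiberObj ξ U) :
    (evPt a z u).1 = ((pairPt z u).1 ≫ a.left) ≫ pullback.fst (str V) (str U) := rfl

theorem evPt_map_comp {Z Z' V : FEt.Cat X} (c : Z ⟶ Z')
    (a : (FEt.restrict (str U)).obj Z' ⟶ (FEt.restrict (str U)).obj V)
    {ξ : Spec (CommRingCat.of Ω) ⟶ X} (z : FEt.fiberObj ξ Z) (u : FEt.fiberObj ξ U) :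
    evPt ((FEt.restrict (str U)).map c ≫ a) z u = evPt a (fmap ξ c z) u := by
  have h : (pairPt z u).1 ≫ ((FEt.restrict (str U)).map c).left = (pairPt (fmap ξ c z) u).1 := by
    refine pullback.hom_ext ?_ ?_
    · rw [Category.assoc, (isPullback_restrict_map (str U) c).w, ← Category.assoc, pairPt_fst]
      exact (pairPt_fst (fmap ξ c z) u).symm
    · refine ((Category.assoc _ _ _).trans (congrArg ((pairPt z u).1 ≫ ·)
        (MorphismProperty.Over.w ((FEt.restrict (str U)).map c)))).trans ?_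
      exact (pairPt z u).2.trans (pairPt (fmap ξ c z) u).2.symm
  refine Subtype.ext ?_
  rw [evPt_val, evPt_val, MorphismProperty.Comma.comp_left, ← Category.assoc (pairPt z u).1, h]

theorem exists_equalizer_point {Y Z : FEt.Cat X} (a b : Y ⟶ Z)
    (ξ : Spec (CommRingCat.of Ω) ⟶ X) (y : FEt.fiberObj ξ Y) (h : fmap ξ a y = fmap ξ b y) :
    ∃ e, fmap ξ (equalizer.ι a b) e = y :=
  (Types.unique_of_type_equalizer _ _
    (isLimitOfHasEqualizerOfPreservesLimit (FEt.fiber ξ) a b) y h).exists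

/-- Morphisms of covers agreeing on all geometric fibres are equal. -/
theorem hom_ext_of_forall_fmap {Y Z : FEt.Cat X} (a b : Y ⟶ Z)
    (h : ∀ (Ω : Type u) [Field Ω] [IsAlgClosed Ω] (ξ : Spec (CommRingCat.of Ω) ⟶ X)
      (y : FEt.fiberObj ξ Y), fmap ξ a y = fmap ξ b y) : a = b := by
  haveI : IsIso (equalizer.ι a b) := isIso_of_mono_of_forall_surjective _ fun Ω _ _ ξ y =>
    exists_equalizer_point a b ξ y (h Ω ξ y)
  exact (cancel_epi (equalizer.ι a b)).1 (equalizer.condition a b)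

theorem hom_ext_of_forall_evPt {Z V : FEt.Cat X}
    (a b : (FEt.restrict (str U)).obj Z ⟶ (FEt.restrict (str U)).obj V)
    (h : ∀ (Ω : Type u) [Field Ω] [IsAlgClosed Ω] (ξ : Spec (CommRingCat.of Ω) ⟶ X)
      (z : FEt.fiberObj ξ Z) (u : FEt.fiberObj ξ U), evPt a z u = evPt b z u) : a = b := by
  refine hom_ext_of_forall_fmap a b fun Ω _ _ η y => ?_
  have hy : y.1 ≫ pullback.snd (str Z) (str U) = η := y.2
  let z : FEt.fiberObj (η ≫ str U) Z := basePts (str U) η Z y
  let u : FEt.fiberObj (η ≫ str U) U := ⟨η, rfl⟩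
  have e : (pairPt z u).1 = y.1 :=
    pullback.hom_ext (pullback.lift_fst _ _ _) ((pullback.lift_snd _ _ _).trans hy.symm)
  have := congrArg Subtype.val (h Ω (η ≫ str U) z u)
  rw [evPt_val, evPt_val, e] at this
  refine Subtype.ext (pullback.hom_ext this ?_)
  exact ((fmap η a y).2).trans (fmap η b y).2.symm

theorem exists_point_of_mem_range [IsAlgClosed Ω] (ξ : Spec (CommRingCat.of Ω) ⟶ X)
    (Y : FEt.Cat X) (h : ξ (pt₀ Ω) ∈ Set.range (str Y)) : Nonempty (FEt.fiberObj ξ Y) := by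
  obtain ⟨p, -⟩ : pt₀ Ω ∈ Set.range (pullback.snd (str Y) ξ) := by
    rw [Scheme.Pullback.range_snd]; exact h
  haveI : Nonempty ((FEt.restrict ξ).obj Y).left := ⟨p⟩
  obtain ⟨s⟩ := exists_point_of_nonempty ((FEt.restrict ξ).obj Y)
  exact ⟨pointsRestrict ξ Y s⟩

/-- The clopen locus of those `z` at which two maps agree for all `u`. -/
theorem exists_agreement {Z V : FEt.Cat X}
    (a b : (FEt.restrict (str U)).obj Z ⟶ (FEt.restrict (str U)).obj V) :
    ∃ (E : FEt.Cat X) (i : E ⟶ Z), ∀ (Ω : Type u) [Field Ω] [IsAlgClosed Ω]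
      (ξ : Spec (CommRingCat.of Ω) ⟶ X),
      Function.Injective (fmap ξ i) ∧
        ∀ z : FEt.fiberObj ξ Z, z ∈ Set.range (fmap ξ i) ↔ ∀ u, evPt a z u = evPt b z u := by
  obtain ⟨_, D, d, _, hD⟩ := mono_complement (equalizer.ι a b)
  let q : D.left ⟶ Z.left := d.left ≫ pullback.fst (str Z) (str U)
  have hq : FEt.prop q := by
    refine FEt.prop.{u}.comp_mem _ _ (prop_left d) ?_
    exact MorphismProperty.pullback_fst _ _ U.prop
  haveI : IsFinite q := hq.1
  haveI : Etale q := hq.2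
  let O : Z.left.Opens := ⟨(Set.range q)ᶜ, q.isClosedMap.isClosed_range.isOpen_compl⟩
  haveI : IsClosedImmersion O.ι := by
    refine IsClosedImmersion.of_isPreimmersion _ ?_
    rw [Scheme.Opens.range_ι]
    exact q.isOpenMap.isOpen_range.isClosed_compl
  let E : FEt.Cat X := MorphismProperty.Over.mk ⊤ (O.ι ≫ str Z)
    (FEt.prop.{u}.comp_mem _ _ ⟨inferInstance, inferInstance⟩ Z.prop)
  let i : E ⟶ Z := MorphismProperty.Over.homMk O.ι rfl
  haveI : IsOpenImmersion i.left := inferInstanceAs (IsOpenImmersion O.ι)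
  refine ⟨E, i, fun Ω _ _ ξ => ⟨injective_fmap ξ i, fun z => ?_⟩⟩
  have hmem : z ∈ Set.range (fmap ξ i) ↔ z.1 (pt₀ Ω) ∉ Set.range q := by
    refine (exists_fmap_eq_iff ξ i z).trans ?_
    show _ ∈ Set.range O.ι ↔ _
    rw [Scheme.Opens.range_ι]
    rfl
  rw [hmem]
  constructor
  · intro hz u
    by_contra hne
    have hd : pairPt z u ∈ Set.range (fmap u.1 d) := by
      have hc := isCompl_range_fmap u.1 (equalizer.ι a b) d hD
      have hu' : pairPt z u ∈
          Set.range (fmap u.1 (equalizer.ι a b)) ⊔ Set.range (fmap u.1 d) := by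
        rw [hc.sup_eq_top]; trivial
      refine hu'.resolve_left ?_
      rintro ⟨e, he⟩
      refine hne (Subtype.ext ?_)
      show (basePts (str U) u.1 V (fmap u.1 a (pairPt z u))).1 =
        (basePts (str U) u.1 V (fmap u.1 b (pairPt z u))).1
      rw [← he]
      show ((e.1 ≫ (equalizer.ι a b).left) ≫ a.left) ≫ pullback.fst _ _ =
        ((e.1 ≫ (equalizer.ι a b).left) ≫ b.left) ≫ pullback.fst _ _
      have hc : (equalizer.ι a b).left ≫ a.left = (equalizer.ι a b).left ≫ b.left :=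
        congrArg (fun k : equalizer a b ⟶ (FEt.restrict (str U)).obj V => k.left)
          (equalizer.condition a b)
      exact congrArg (· ≫ pullback.fst (str V) (str U))
        ((Category.assoc _ _ _).trans ((congrArg (e.1 ≫ ·) hc).trans (Category.assoc _ _ _).symm))
    obtain ⟨e, he⟩ := hd
    refine hz ⟨e.1 (pt₀ Ω), ?_⟩
    have h1 : (e.1 ≫ d.left) ≫ pullback.fst (str Z) (str U) = z.1 :=
      (congrArg (fun r => r.1 ≫ pullback.fst (str Z) (str U)) he).trans (pairPt_fst z u)
    show q (e.1 (pt₀ Ω)) = z.1 (pt₀ Ω)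
    rw [← Scheme.Hom.comp_apply]
    exact congrArg (fun r : Spec (CommRingCat.of Ω) ⟶ Z.left => r (pt₀ Ω))
      ((Category.assoc _ _ _).symm.trans h1)
  · intro h hz
    obtain ⟨e⟩ := exists_point_of_mem_range z.1 (MorphismProperty.Over.mk ⊤ q hq) hz
    have he : e.1 ≫ q = z.1 := e.2
    let y : Spec (CommRingCat.of Ω) ⟶ U.left :=
      (e.1 ≫ d.left) ≫ pullback.snd (str Z) (str U)
    have hy : y ≫ str U = ξ := by
      show ((e.1 ≫ d.left) ≫ pullback.snd _ _) ≫ str U = ξ
      rw [Category.assoc, ← pullback.condition, ← Category.assoc, Category.assoc e.1]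
      exact (congrArg (· ≫ str Z) he).trans z.2
    let u : FEt.fiberObj ξ U := ⟨y, hy⟩
    have hpair : (pairPt z u).1 = e.1 ≫ d.left := by
      refine pullback.hom_ext ((pairPt_fst z u).trans ?_) (pullback.lift_snd _ _ _)
      exact he.symm.trans (Category.assoc _ _ _).symm
    let e' : FEt.fiberObj u.1 D := ⟨e.1, by
      refine ((congrArg (e.1 ≫ ·) (MorphismProperty.Over.w d).symm)).trans ?_
      exact (Category.assoc _ _ _).symm⟩
    have hfe : fmap u.1 d e' = pairPt z u := Subtype.ext hpair.symm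
    have hfix : fmap u.1 a (pairPt z u) = fmap u.1 b (pairPt z u) :=
      (basePts (str U) u.1 V).injective (Subtype.ext (congrArg (fun r : FEt.fiberObj ξ V => r.1) (h u)))
    exact Set.disjoint_left.1 (isCompl_range_fmap u.1 (equalizer.ι a b) d hD).disjoint
      (exists_equalizer_point a b u.1 _ hfix) ⟨e', hfe⟩

end Groth.Agent.FEtExp
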