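import Mathlib
import Groth.Prelude.Def_FEt
import Groth.Agent.FEtExp.Basic

/-!
# Exponentials by covers of constant degree
-/

set_option autoImplicit false
set_option linter.style.haveILetI false
set_option backward.isDefEq.respectTransparency false

universe u

open CategoryTheory CategoryTheory.Limits AlgebraicGeometry

noncomputable section

namespace Groth.Agent.FEtExp

open Groth.Agent.FEtGal Groth.Agent.FEtRank

variable {X : Scheme.{u}}

/-- `ev` makes `W` the object of maps from `U` to `V`, checked on geometric fibres. -/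
def IsExp (U V W : FEt.Cat X)
    (ev : (FEt.restrict (str U)).obj W ⟶ (FEt.restrict (str U)).obj V) : Prop :=
  ∀ (Ω : Type u) [Field Ω] [IsAlgClosed Ω] (ξ : Spec (CommRingCat.of Ω) ⟶ X),
    Function.Bijective fun (w : FEt.fiberObj ξ W) (u : FEt.fiberObj ξ U) => evPt ev w u

theorem exists_fiber_limit {J : Type} [SmallCategory J] [FinCategory J] {Z : Scheme.{u}}
    (D : J ⥤ FEt.Cat Z) {Ω : Type u} [Field Ω] (ξ : Spec (CommRingCat.of Ω) ⟶ Z)
    (p : ∀ j, FEt.fiberObj ξ (D.obj j))
    (hp : ∀ {i j : J} (g : i ⟶ j), fmap ξ (D.map g) (p i) = p j) :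
    ∃ x : FEt.fiberObj ξ (limit D), ∀ j, fmap ξ (limit.π D j) x = p j :=
  ((Types.isLimit_iff _).1 ⟨isLimitOfPreserves (FEt.fiber ξ) (limit.isLimit D)⟩ p
    (fun g => hp g)).exists

theorem exists_pair_point {Z : Scheme.{u}} (A B : FEt.Cat Z) {Ω : Type u} [Field Ω]
    (ξ : Spec (CommRingCat.of Ω) ⟶ Z) (a : FEt.fiberObj ξ A) (b : FEt.fiberObj ξ B) :
    ∃ x : FEt.fiberObj ξ (A ⨯ B), fmap ξ prod.fst x = a ∧ fmap ξ prod.snd x = b := by
  obtain ⟨x, hx⟩ := exists_fiber_limit (pair A B) ξ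
    (fun j => match j with
      | ⟨.left⟩ => a
      | ⟨.right⟩ => b)
    (fun {i j} g => by
      obtain rfl : i = j := by ext; exact Discrete.eq_of_hom g
      rw [show g = 𝟙 _ from Subsingleton.elim _ _, CategoryTheory.Functor.map_id]
      exact Subtype.ext (Category.comp_id _))
  exact ⟨x, hx ⟨.left⟩, hx ⟨.right⟩⟩

theorem surjective_fmap_coequalizer {A B : FEt.Cat X} (r r' : A ⟶ B) {Ω : Type u} [Field Ω]
    [IsAlgClosed Ω] (ξ : Spec (CommRingCat.of Ω) ⟶ X) :
    Function.Surjective (fmap ξ (coequalizer.π r r')) :=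
  (epi_iff_surjective _).1
    (inferInstanceAs (Epi ((FEt.fiber ξ).map (coequalizer.π r r'))))

/-- Evaluation data on a cover `P` surjecting onto all maps descends to an exponential. -/
theorem exists_isExp_of_surjective {U V P : FEt.Cat X}
    (ev₀ : (FEt.restrict (str U)).obj P ⟶ (FEt.restrict (str U)).obj V)
    (h : ∀ (Ω : Type u) [Field Ω] [IsAlgClosed Ω] (ξ : Spec (CommRingCat.of Ω) ⟶ X),
      Function.Surjective fun (x : FEt.fiberObj ξ P) (u : FEt.fiberObj ξ U) => evPt ev₀ x u) :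
    ∃ (W : FEt.Cat X) (ev : _), IsExp U V W ev := by
  let G := FEt.restrict (str U)
  obtain ⟨E, i, hi⟩ := exists_agreement (G.map (prod.fst : P ⨯ P ⟶ P) ≫ ev₀)
    (G.map (prod.snd : P ⨯ P ⟶ P) ≫ ev₀)
  let r₁ := i ≫ (prod.fst : P ⨯ P ⟶ P)
  let r₂ := i ≫ (prod.snd : P ⨯ P ⟶ P)
  have hcond : G.map r₁ ≫ ev₀ = G.map r₂ ≫ ev₀ := by
    refine hom_ext_of_forall_evPt _ _ fun Ω _ _ ξ z u => ?_
    rw [G.map_comp, G.map_comp, Category.assoc, Category.assoc]
    exact (evPt_map_comp i _ z u).trans ((((hi Ω ξ).2 _).1 ⟨z, rfl⟩ u).trans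
      (evPt_map_comp i _ z u).symm)
  let ev : G.obj (coequalizer r₁ r₂) ⟶ G.obj V :=
    (PreservesCoequalizer.iso G r₁ r₂).inv ≫ coequalizer.desc ev₀ hcond
  have hev : G.map (coequalizer.π r₁ r₂) ≫ ev = ev₀ := by
    have e : G.map (coequalizer.π r₁ r₂) =
        coequalizer.π (G.map r₁) (G.map r₂) ≫ (PreservesCoequalizer.iso G r₁ r₂).hom := by
      rw [PreservesCoequalizer.iso_hom, ι_comp_coequalizerComparison]
    rw [e, Category.assoc, Iso.hom_inv_id_assoc, coequalizer.π_desc]
  have hval : ∀ (Ω : Type u) [Field Ω] [IsAlgClosed Ω] (ξ : Spec (CommRingCat.of Ω) ⟶ X)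
      (x : FEt.fiberObj ξ P) (u : FEt.fiberObj ξ U),
      evPt ev (fmap ξ (coequalizer.π r₁ r₂) x) u = evPt ev₀ x u := fun Ω _ _ ξ x u => by
    rw [← evPt_map_comp, hev]
  refine ⟨coequalizer r₁ r₂, ev, fun Ω _ _ ξ => ⟨fun w w' hww => ?_, fun f => ?_⟩⟩
  · obtain ⟨x, rfl⟩ := surjective_fmap_coequalizer r₁ r₂ ξ w
    obtain ⟨x', rfl⟩ := surjective_fmap_coequalizer r₁ r₂ ξ w'
    obtain ⟨z, hz, hz'⟩ := exists_pair_point P P ξ x x'
    have hmem : z ∈ Set.range (fmap ξ i) := by
      refine ((hi Ω ξ).2 z).2 fun u => ?_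
      rw [evPt_map_comp, evPt_map_comp, hz, hz', ← hval, ← hval]
      exact congrFun hww u
    obtain ⟨e, rfl⟩ := hmem
    rw [← hz, ← hz']
    have hc := coequalizer.condition r₁ r₂
    have := congrArg (fun m => fmap ξ m e) hc
    refine Subtype.ext ?_
    have h2 := congrArg Subtype.val this
    simp only [fmap_val, r₁, r₂, MorphismProperty.Comma.comp_left] at h2 ⊢
    simpa only [Category.assoc] using h2
  · obtain ⟨x, hx⟩ := h Ω ξ f
    exact ⟨fmap ξ (coequalizer.π r₁ r₂) x, funext fun u => (hval Ω ξ x u).trans (congrFun hx u)⟩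

set_option maxHeartbeats 1000000 in
/-- Exponentials by covers of constant degree exist. -/
theorem exists_isExp_of_degree (U V : FEt.Cat X) (n : ℕ)
    (hn : ∀ (Ω : Type u) [Field Ω] [IsAlgClosed Ω] (ξ : Spec (CommRingCat.of Ω) ⟶ X),
      Nat.card (FEt.fiberObj ξ U) = n) :
    ∃ (W : FEt.Cat X) (ev : _), IsExp U V W ev := by
  obtain ⟨T, s, hT, hs⟩ := exists_split n U hn
  let VT := (FEt.restrict (str T)).obj V
  let Pw : FEt.Cat T.left := ∏ᶜ fun _ : Fin n => VT
  let π : ∀ _ : Fin n, Pw ⟶ VT := fun j => Pi.π (fun _ : Fin n => VT) j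
  let P : FEt.Cat X := MorphismProperty.Over.mk ⊤ (str Pw ≫ str T)
    (FEt.prop.{u}.comp_mem _ _ Pw.prop T.prop)
  let Z : FEt.Cat P.left := (FEt.restrict (str P)).obj U
  have hsw : ∀ j, (s j).left ≫ pullback.snd (str U) (str T) = 𝟙 T.left :=
    fun j => MorphismProperty.Over.w (s j)
  have hπw : ∀ j, (π j).left ≫ pullback.snd (str V) (str T) = str Pw :=
    fun j => MorphismProperty.Over.w (π j)
  let σ : Fin n → (one P.left ⟶ Z) := fun j =>
    MorphismProperty.Over.homMk
      (pullback.lift (str Pw ≫ (s j).left ≫ pullback.fst (str U) (str T)) (𝟙 P.left) (by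
        rw [Category.assoc, Category.assoc, pullback.condition, reassoc_of% (hsw j)]
        exact (Category.id_comp _).symm))
      (pullback.lift_snd _ _ _)
  let v : Fin n → (one P.left ⟶ (FEt.restrict (str P)).obj V) := fun j =>
    MorphismProperty.Over.homMk
      (pullback.lift ((π j).left ≫ pullback.fst (str V) (str T)) (𝟙 P.left) (by
        rw [Category.assoc, pullback.condition, reassoc_of% (hπw j)]
        exact (Category.id_comp _).symm))
      (pullback.lift_snd _ _ _)
  have hσ : ∀ (Ω : Type u) [Field Ω] [IsAlgClosed Ω] (η : Spec (CommRingCat.of Ω) ⟶ P.left),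
      SplitAt σ η := by
    intro Ω _ _ η
    let τ : Spec (CommRingCat.of Ω) ⟶ T.left := η ≫ str Pw
    let e : FEt.fiberObj (τ ≫ str T) U ≃ FEt.fiberObj (η ≫ str P) U :=
      { toFun := fun p => ⟨p.1, p.2.trans (Category.assoc _ _ _)⟩
        invFun := fun p => ⟨p.1, p.2.trans (Category.assoc _ _ _).symm⟩
        left_inv := fun _ => rfl
        right_inv := fun _ => rfl }
    let d : FEt.fiberObj η Z ≃ FEt.fiberObj τ ((FEt.restrict (str T)).obj U) :=
      (basePts (str P) η U).trans (e.symm.trans (basePts (str T) τ U).symm)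
    have : (d ∘ fun j => secPt (σ j) η) = fun j => secPt (s j) τ := by
      funext j
      refine Subtype.ext (pullback.hom_ext ?_ ?_)
      · refine (pullback.lift_fst _ _ _).trans ?_
        show (η ≫ (σ j).left) ≫ pullback.fst _ _ = (τ ≫ (s j).left) ≫ pullback.fst _ _
        rw [Category.assoc η]
        refine (congrArg (η ≫ ·) (pullback.lift_fst _ _ _)).trans ?_
        simp only [τ, Category.assoc]
      · exact (pullback.lift_snd _ _ _).trans (secPt (s j) τ).2.symm
    exact (Function.Bijective.of_comp_iff' d.bijective _).1 (this ▸ hs Ω τ)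
  haveI : IsIso (Sigma.desc σ) := isIso_of_forall_bijective _ fun Ω _ _ η =>
    bijective_desc σ η (hσ Ω η)
  let g : Z ⟶ (FEt.restrict (str P)).obj V := inv (Sigma.desc σ) ≫ Sigma.desc v
  have hg : ∀ j, σ j ≫ g = v j := fun j => by
    rw [← Sigma.ι_desc σ j, Category.assoc, IsIso.hom_inv_id_assoc, Sigma.ι_desc]
  have hgw : g.left ≫ pullback.snd (str V) (str P) = pullback.snd (str U) (str P) :=
    MorphismProperty.Over.w g
  let sw : pullback (str P) (str U) ⟶ pullback (str U) (str P) :=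
    pullback.lift (pullback.snd _ _) (pullback.fst _ _) pullback.condition.symm
  let ev₀ : (FEt.restrict (str U)).obj P ⟶ (FEt.restrict (str U)).obj V :=
    MorphismProperty.Over.homMk
      (pullback.lift (sw ≫ g.left ≫ pullback.fst (str V) (str P))
        (pullback.snd (str P) (str U)) (by
          simp only [sw, Category.assoc, pullback.condition, reassoc_of% hgw,
            pullback.lift_snd_assoc]))
      (pullback.lift_snd _ _ _)
  have hval : ∀ (Ω : Type u) [Field Ω] [IsAlgClosed Ω] (ξ : Spec (CommRingCat.of Ω) ⟶ X)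
      (x : FEt.fiberObj ξ P) (u : FEt.fiberObj ξ U) (j : Fin n),
      u.1 = (x.1 ≫ str Pw) ≫ (s j).left ≫ pullback.fst (str U) (str T) →
      (evPt ev₀ x u).1 = x.1 ≫ (π j).left ≫ pullback.fst (str V) (str T) := by
    intro Ω _ _ ξ x u j hu
    have h1 : (pairPt x u).1 ≫ sw = x.1 ≫ (σ j).left := by
      refine pullback.hom_ext ?_ ?_
      · rw [Category.assoc, pullback.lift_fst]
        refine (pullback.lift_snd _ _ _).trans (hu.trans ?_)
        rw [Category.assoc x.1]
        refine ((Category.assoc _ _ _).trans ?_).symm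
        exact congrArg (x.1 ≫ ·) (pullback.lift_fst _ _ _)
      · rw [Category.assoc, pullback.lift_snd]
        refine (pullback.lift_fst _ _ _).trans ?_
        refine ((Category.assoc _ _ _).trans ?_).symm
        exact (congrArg (x.1 ≫ ·) (pullback.lift_snd _ _ _)).trans (Category.comp_id _)
    have h2 : (σ j).left ≫ g.left = (v j).left := by
      rw [← MorphismProperty.Comma.comp_left, hg]
    rw [evPt_val]
    refine ((Category.assoc _ _ _).trans
      (congrArg ((pairPt x u).1 ≫ ·) (pullback.lift_fst _ _ _))).trans ?_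
    rw [← Category.assoc, h1, Category.assoc, reassoc_of% h2]
    exact congrArg (x.1 ≫ ·) (pullback.lift_fst _ _ _)
  refine exists_isExp_of_surjective ev₀ fun Ω _ _ ξ f => ?_
  haveI : Finite (FEt.fiberObj ξ T) := Groth.Agent.S0294.result ξ T
  obtain ⟨τ⟩ : Nonempty (FEt.fiberObj ξ T) := (Nat.card_pos_iff.1 (by
    rw [hT Ω ξ]; exact Nat.factorial_pos n)).1
  let uj : Fin n → FEt.fiberObj ξ U := fun j =>
    ⟨(basePts (str T) τ.1 U (secPt (s j) τ.1)).1,
      (basePts (str T) τ.1 U (secPt (s j) τ.1)).2.trans τ.2⟩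
  let val : Fin n → FEt.fiberObj τ.1 VT := fun j =>
    (basePts (str T) τ.1 V).symm ⟨(f (uj j)).1, (f (uj j)).2.trans τ.2.symm⟩
  obtain ⟨x, hx⟩ := exists_fiber_limit (Discrete.functor fun _ : Fin n => VT) τ.1
    (fun j => val j.as) (fun {i j} g => by
      obtain rfl : i = j := by ext; exact congrArg Fin.val (Discrete.eq_of_hom g)
      rw [show g = 𝟙 _ from Subsingleton.elim _ _, CategoryTheory.Functor.map_id]
      exact Subtype.ext (Category.comp_id _))
  have hxτ : x.1 ≫ str Pw = τ.1 := x.2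
  refine ⟨⟨x.1, ((reassoc_of% hxτ) (str T)).trans τ.2⟩, funext fun u => ?_⟩
  obtain ⟨j, hj⟩ := (hs Ω τ.1).2 ((basePts (str T) τ.1 U).symm ⟨u.1, u.2.trans τ.2.symm⟩)
  have huj : uj j = u := by
    refine Subtype.ext ?_
    have := congrArg (fun q => (basePts (str T) τ.1 U q).1) hj
    simpa [uj] using this
  have hu : u.1 = (x.1 ≫ str Pw) ≫ (s j).left ≫ pullback.fst (str U) (str T) := by
    rw [hxτ, ← huj]
    exact Category.assoc _ _ _
  refine Subtype.ext ((hval Ω ξ _ u j hu).trans ?_)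
  have hxj : (x.1 ≫ (π j).left) = (val j).1 := congrArg Subtype.val (hx ⟨j⟩)
  rw [← Category.assoc, hxj, ← huj]
  exact pullback.lift_fst _ _ _

end Groth.Agent.FEtExp
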