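import Mathlib
import Groth.Prelude.Def_FEt
import Groth.Agent.FEtExp.Degree

/-!
# Exponentials of finite étale covers
-/

set_option autoImplicit false
set_option linter.style.haveILetI false
set_option backward.isDefEq.respectTransparency false

universe u

open CategoryTheory CategoryTheory.Limits AlgebraicGeometry

noncomputable section

namespace Groth.Agent.FEtExp

open Groth.Agent.FEtGal Groth.Agent.FEtRank

variable {X : Scheme.{u}}

/-- The locus where the degree of `U` is `n`. -/
def degLocus (U : FEt.Cat X) (n : ULift.{u} ℕ) : X.Opens :=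
  ⟨(str U).finrank ⁻¹' {n.down}, (str U).isLocallyConstant_finrank _⟩

theorem mem_degLocus_iff (U : FEt.Cat X) (n : ULift.{u} ℕ) (x : X) :
    x ∈ degLocus U n ↔ (str U).finrank x = n.down := Iff.rfl

theorem iSup_degLocus (U : FEt.Cat X) : iSup (degLocus U) = ⊤ :=
  top_unique fun x _ => TopologicalSpace.Opens.mem_iSup.2 ⟨⟨(str U).finrank x⟩, rfl⟩

theorem degLocus_unique (U : FEt.Cat X) {n m : ULift.{u} ℕ} {x : X} (hn : x ∈ degLocus U n)
    (hm : x ∈ degLocus U m) : n = m :=
  ULift.ext _ _ (hn.symm.trans hm)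

section glue

variable (U : FEt.Cat X) (W : ∀ n, FEt.Cat (degLocus U n).toScheme)

/-- The total space of the glued cover. -/
abbrev glueTotal : Scheme.{u} := ∐ fun n => (W n).left

/-- The structure map of the glued cover. -/
def glueMap : glueTotal U W ⟶ X := Sigma.desc fun n => str (W n) ≫ (degLocus U n).ι

@[reassoc]
theorem ι_glueMap (n : ULift.{u} ℕ) :
    Sigma.ι (fun n => (W n).left) n ≫ glueMap U W = str (W n) ≫ (degLocus U n).ι :=
  Sigma.ι_desc _ _

theorem glueMap_mem_iff (n : ULift.{u} ℕ) (z : glueTotal U W) :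
    glueMap U W z ∈ degLocus U n ↔ z ∈ Set.range (Sigma.ι (fun n => (W n).left) n) := by
  obtain ⟨m, w, rfl⟩ := (sigmaOpenCover _).exists_eq z
  have hw : glueMap U W (Sigma.ι (fun n => (W n).left) m w) ∈ degLocus U m := by
    rw [← Scheme.Hom.comp_apply, ι_glueMap, Scheme.Hom.comp_apply]
    exact (str (W m) w).2
  refine ⟨fun h => ?_, ?_⟩
  · obtain rfl := degLocus_unique U h hw
    exact ⟨w, rfl⟩
  · rintro ⟨w', hw'⟩
    rw [show (sigmaOpenCover fun n => (W n).left).f m w =
      Sigma.ι (fun n => (W n).left) n w' from hw'.symm, ← Scheme.Hom.comp_apply, ι_glueMap,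
      Scheme.Hom.comp_apply]
    exact (str (W n) w').2

theorem isPullback_glueMap (n : ULift.{u} ℕ) :
    IsPullback (str (W n)) (Sigma.ι (fun n => (W n).left) n) (degLocus U n).ι (glueMap U W) := by
  refine IsOpenImmersion.isPullback _ _ _ _ (ι_glueMap U W n) ?_
  rw [Scheme.Opens.opensRange_ι]
  refine TopologicalSpace.Opens.ext (Set.ext fun z => ?_)
  exact glueMap_mem_iff U W n z

theorem prop_glueMap : FEt.prop (glueMap U W) := by
  have h : ∀ n, FEt.prop (glueMap U W ∣_ degLocus U n) := fun n => by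
    let e := (isPullback_glueMap U W n).flip.isoIsPullback _ _
      (isPullback_morphismRestrict (glueMap U W) (degLocus U n)).flip
    have he : e.inv ≫ str (W n) = glueMap U W ∣_ degLocus U n :=
      IsPullback.isoIsPullback_inv_snd _ _ _ _
    rw [← he]
    exact (FEt.prop.{u}.cancel_left_of_respectsIso e.inv (str (W n))).2 (W n).prop
  exact ⟨IsZariskiLocalAtTarget.of_iSup_eq_top _ (iSup_degLocus U) fun n => (h n).1,
    IsZariskiLocalAtTarget.of_iSup_eq_top _ (iSup_degLocus U) fun n => (h n).2⟩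

/-- The cover glued from covers of the degree loci. -/
def glueCover : FEt.Cat X := MorphismProperty.Over.mk ⊤ (glueMap U W) (prop_glueMap U W)

/-- Points of the pieces give points of the glued cover. -/
def gluePt {Ω : Type u} [Field Ω] {n : ULift.{u} ℕ}
    (ξ' : Spec (CommRingCat.of Ω) ⟶ (degLocus U n).toScheme) (w : FEt.fiberObj ξ' (W n)) :
    FEt.fiberObj (ξ' ≫ (degLocus U n).ι) (glueCover U W) :=
  ⟨w.1 ≫ Sigma.ι (fun n => (W n).left) n, by
    show (w.1 ≫ Sigma.ι (fun n => (W n).left) n) ≫ glueMap U W = _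
    rw [Category.assoc, ι_glueMap, ← Category.assoc]
    exact congrArg (· ≫ (degLocus U n).ι) w.2⟩

theorem bijective_gluePt {Ω : Type u} [Field Ω] {n : ULift.{u} ℕ}
    (ξ' : Spec (CommRingCat.of Ω) ⟶ (degLocus U n).toScheme) :
    Function.Bijective (gluePt U W ξ') := by
  refine ⟨fun w w' h => Subtype.ext ((cancel_mono _).1 (congrArg Subtype.val h)), fun z => ?_⟩
  have hz : z.1 ≫ glueMap U W = ξ' ≫ (degLocus U n).ι := z.2
  refine ⟨⟨(isPullback_glueMap U W n).lift ξ' z.1 hz.symm,
    (isPullback_glueMap U W n).lift_fst _ _ _⟩, ?_⟩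
  exact Subtype.ext ((isPullback_glueMap U W n).lift_snd _ _ _)

end glue

/-- Exponentials of finite étale covers exist. -/
theorem exists_isExp (U V : FEt.Cat X) : ∃ (W : FEt.Cat X) (ev : _), IsExp U V W ev := by
  let O := degLocus U
  have hpiece : ∀ n, ∃ (W' : FEt.Cat (O n).toScheme) (ev : _),
      IsExp ((FEt.restrict (O n).ι).obj U) ((FEt.restrict (O n).ι).obj V) W' ev := fun n => by
    refine exists_isExp_of_degree _ _ n.down fun Ω _ _ ξ' => ?_
    rw [natCard_fiber]
    exact (Scheme.Hom.finrank_pullback_snd (str U) (O n).ι _).trans (ξ' (pt₀ Ω)).2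
  choose W ev hev using hpiece
  let Un n := (FEt.restrict (O n).ι).obj U
  let Vn n := (FEt.restrict (O n).ι).obj V
  let Wg := glueCover U W
  let S : Scheme.{u} := pullback (str Wg) (str U)
  let k : ∀ n, pullback (str (W n)) (str (Un n)) ⟶ S := fun n =>
    pullback.map (str (W n)) (str (Un n)) (str Wg) (str U)
      (Sigma.ι (fun n => (W n).left) n) (pullback.fst (str U) (O n).ι) (O n).ι
      (ι_glueMap U W n).symm pullback.condition.symm
  haveI : ∀ n, IsOpenImmersion (pullback.fst (str U) (O n).ι) := fun n => inferInstance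
  haveI hk : ∀ n, IsOpenImmersion (k n) := fun n => Scheme.pullback_map_isOpenImmersion ..
  have hrange : ∀ n (z : S), z ∈ Set.range (k n) ↔ str U (pullback.snd (str Wg) (str U) z) ∈ O n := by
    intro n z
    have hz : str Wg (pullback.fst (str Wg) (str U) z) =
        str U (pullback.snd (str Wg) (str U) z) := by
      rw [← Scheme.Hom.comp_apply, ← Scheme.Hom.comp_apply, pullback.condition]
    rw [show Set.range (k n) = _ from Scheme.Pullback.range_map ..]
    refine ⟨fun h => ?_, fun h => ⟨?_, ?_⟩⟩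
    · rw [← hz]
      exact (glueMap_mem_iff U W n _).2 h.1
    · exact (glueMap_mem_iff U W n _).1 (hz ▸ h)
    · have e : Set.range (pullback.fst (str U) (O n).ι) = str U ⁻¹' Set.range (O n).ι :=
        IsOpenImmersion.range_pullbackFst (O n).ι (str U)
      exact e.symm.subset ((Scheme.Opens.range_ι (O n)).symm.subset h)
  obtain ⟨hc⟩ := nonempty_isColimit_cofanMk_of k
    (top_unique fun z _ => TopologicalSpace.Opens.mem_iSup.2
      ⟨⟨(str U).finrank (str U (pullback.snd (str Wg) (str U) z))⟩, (hrange _ z).2 rfl⟩)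
    (fun n m hnm => disjoint_iff.2 <| eq_bot_iff.2 fun z hz =>
      (hnm (degLocus_unique U ((hrange n z).1 hz.1) ((hrange m z).1 hz.2))).elim)
  let m : S ⟶ V.left := Cofan.IsColimit.desc hc fun n =>
    (ev n).left ≫ pullback.fst (str (Vn n)) (str (Un n)) ≫ pullback.fst (str V) (O n).ι
  have hm : ∀ n, k n ≫ m =
      (ev n).left ≫ pullback.fst (str (Vn n)) (str (Un n)) ≫ pullback.fst (str V) (O n).ι :=
    fun n => Cofan.IsColimit.fac hc _ n
  have hm' : m ≫ str V = pullback.snd (str Wg) (str U) ≫ str U := by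
    refine Cofan.IsColimit.hom_ext hc _ _ fun n => ?_
    show k n ≫ m ≫ str V = k n ≫ pullback.snd (str Wg) (str U) ≫ str U
    have hw : (ev n).left ≫ pullback.snd (str (Vn n)) (str (Un n)) =
        pullback.snd (str (W n)) (str (Un n)) := MorphismProperty.Over.w (ev n)
    rw [reassoc_of% (hm n), reassoc_of% (pullback.lift_snd _ _ _ : k n ≫ pullback.snd _ _ = _)]
    rw [pullback.condition]
    show (ev n).left ≫ pullback.fst _ _ ≫ str (Vn n) ≫ _ = _
    rw [pullback.condition_assoc, reassoc_of% hw, pullback.condition]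
    rfl
  let evg : (FEt.restrict (str U)).obj Wg ⟶ (FEt.restrict (str U)).obj V :=
    MorphismProperty.Over.homMk (pullback.lift m (pullback.snd (str Wg) (str U)) hm')
      (pullback.lift_snd _ _ _)
  refine ⟨Wg, evg, fun Ω _ _ ξ => ?_⟩
  obtain ⟨n, hn⟩ : ∃ n, ξ (pt₀ Ω) ∈ O n := ⟨⟨(str U).finrank (ξ (pt₀ Ω))⟩, rfl⟩
  obtain ⟨ξ', rfl⟩ : ∃ ξ', ξ' ≫ (O n).ι = ξ := ⟨IsOpenImmersion.lift (O n).ι ξ (by
    rw [range_point, Scheme.Opens.range_ι]; exact Set.singleton_subset_iff.2 hn),
    IsOpenImmersion.lift_fac _ _ _⟩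
  let cU := basePts (O n).ι ξ' U
  let cV := basePts (O n).ι ξ' V
  have hval : ∀ (w : FEt.fiberObj ξ' (W n)) (u : FEt.fiberObj ξ' (Un n)),
      evPt evg (gluePt U W ξ' w) (cU u) = cV (evPt (ev n) w u) := by
    intro w u
    have hp : (pairPt (gluePt U W ξ' w) (cU u)).1 = (pairPt w u).1 ≫ k n := by
      refine pullback.hom_ext ?_ ?_
      · rw [Category.assoc, pullback.lift_fst, ← Category.assoc, pairPt_fst, pairPt_fst]
        rfl
      · rw [Category.assoc, pullback.lift_snd, ← Category.assoc]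
        exact (pullback.lift_snd _ _ _).trans
          (congrArg (· ≫ pullback.fst (str U) (O n).ι) (pullback.lift_snd _ _ _)).symm
    refine Subtype.ext ?_
    show ((pairPt (gluePt U W ξ' w) (cU u)).1 ≫ evg.left) ≫ pullback.fst (str V) (str U) =
      (((pairPt w u).1 ≫ (ev n).left) ≫ pullback.fst _ _) ≫ pullback.fst (str V) (O n).ι
    rw [hp, Category.assoc, Category.assoc, show evg.left ≫ pullback.fst (str V) (str U) = m from
      pullback.lift_fst _ _ _, hm, Category.assoc, Category.assoc]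
  let Φ : (FEt.fiberObj ξ' (Un n) → FEt.fiberObj ξ' (Vn n)) ≃
      (FEt.fiberObj (ξ' ≫ (O n).ι) U → FEt.fiberObj (ξ' ≫ (O n).ι) V) := Equiv.arrowCongr cU cV
  have : (fun (z : FEt.fiberObj (ξ' ≫ (O n).ι) Wg) u => evPt evg z u) ∘ gluePt U W ξ' =
      Φ ∘ fun w u => evPt (ev n) w u := by
    funext w u
    show evPt evg (gluePt U W ξ' w) u = cV (evPt (ev n) w (cU.symm u))
    rw [← hval w (cU.symm u), Equiv.apply_symm_apply]
  exact (Function.Bijective.of_comp_iff _ (bijective_gluePt U W ξ')).1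
    (this ▸ Φ.bijective.comp (hev n Ω ξ'))

end Groth.Agent.FEtExp
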